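import Mathlib.FieldTheory.IsAlgClosed.Classification
import Mathlib.RingTheory.AlgebraicIndependent.TranscendenceBasis
import Mathlib.RingTheory.FiniteType
import Mathlib.Algebra.MvPolynomial.Cardinal

/-!
# Algebraically closed fields over a countable ring
-/

set_option autoImplicit false

universe u

open Cardinal

noncomputable section

namespace GrothLib.GenFib0

/-- Uncountable algebraically closed fields of the same cardinality are isomorphic over a common
countable subring. -/
theorem exists_ringEquiv_comp {R K L : Type u} [CommRing R] [Nontrivial R] [Field K] [Field L]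
    [IsAlgClosed K] [IsAlgClosed L] (a : R →+* K) (b : R →+* L) (ha : Function.Injective a)
    (hb : Function.Injective b) (hR : #R ≤ ℵ₀) (hK : ℵ₀ < #K) (hKL : #K = #L) :
    ∃ σ : K ≃+* L, σ.toRingHom.comp a = b := by
  letI := a.toAlgebra
  letI := b.toAlgebra
  haveI : FaithfulSMul R K := (faithfulSMul_iff_algebraMap_injective R K).2 ha
  haveI : FaithfulSMul R L := (faithfulSMul_iff_algebraMap_injective R L).2 hb
  haveI : IsDomain R := Function.Injective.isDomain a ha
  obtain ⟨s, hs⟩ := exists_isTranscendenceBasis R K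
  obtain ⟨t, ht⟩ := exists_isTranscendenceBasis R L
  have h1 := IsAlgClosed.cardinal_eq_cardinal_transcendence_basis_of_aleph0_lt' _ hs hR hK
  have h2 := IsAlgClosed.cardinal_eq_cardinal_transcendence_basis_of_aleph0_lt' _ ht hR (hKL ▸ hK)
  obtain ⟨e⟩ := Cardinal.eq.1 (h1.symm.trans (hKL.trans h2))
  refine ⟨IsAlgClosed.equivOfTranscendenceBasis _ _ e hs ht, RingHom.ext fun r => ?_⟩
  show IsAlgClosed.equivOfTranscendenceBasis _ _ e hs ht (algebraMap R K r) = algebraMap R L r
  unfold IsAlgClosed.equivOfTranscendenceBasis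
  simp only
  rw [IsScalarTower.algebraMap_apply R (Algebra.adjoin R (Set.range ((↑) : s → K))) K r]
  erw [IsAlgClosure.equivOfEquiv_algebraMap]
  simp only [RingEquiv.trans_apply]
  erw [AlgEquiv.commutes, AlgEquiv.commutes, AlgEquiv.commutes]
  exact (IsScalarTower.algebraMap_apply R _ L r).symm

theorem mk_le_aleph0_of_finiteType_int {R : Type u} [CommRing R] [Algebra.FiniteType ℤ R] : #R ≤ ℵ₀ := by
  obtain ⟨n, f, hf⟩ := Algebra.FiniteType.iff_quotient_mvPolynomial''.1 (‹Algebra.FiniteType ℤ R›)
  have h := Cardinal.lift_mk_le_lift_mk_of_surjective hf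
  rw [Cardinal.lift_id', ← Cardinal.lift_aleph0.{u, 0}] at *
  refine h.trans (Cardinal.lift_le.2 ?_)
  refine MvPolynomial.cardinalMk_le_max_lift.trans ?_
  simp [Cardinal.mk_le_aleph0]

theorem mk_le_of_finiteType {k A : Type u} [Field k] [Infinite k] [CommRing A] [Algebra k A]
    [Algebra.FiniteType k A] : #A ≤ #k := by
  obtain ⟨n, f, hf⟩ := Algebra.FiniteType.iff_quotient_mvPolynomial''.1 (‹Algebra.FiniteType k A›)
  refine (Cardinal.mk_le_of_surjective hf).trans (MvPolynomial.cardinalMk_le_max_lift.trans ?_)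
  have hn : Cardinal.lift.{u, 0} #(Fin n) ≤ ℵ₀ := by
    rw [Cardinal.lift_le_aleph0]; exact Cardinal.mk_le_aleph0
  simp only [Cardinal.lift_id']
  exact max_le (max_le le_rfl (hn.trans (Cardinal.aleph0_le_mk k))) (Cardinal.aleph0_le_mk k)

end GrothLib.GenFib0
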