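import Mathlib.AlgebraicGeometry.Morphisms.FiniteType
import Mathlib.AlgebraicGeometry.Morphisms.ClosedImmersion
import Mathlib.AlgebraicGeometry.Morphisms.Preimmersion
import Mathlib.AlgebraicGeometry.FunctionField
import Mathlib.AlgebraicGeometry.ResidueField
import Mathlib.FieldTheory.IsAlgClosed.Basic
import Mathlib.RingTheory.Jacobson.Ring

/-!
# Fibres of a morphism read off a model
-/

set_option autoImplicit false
set_option backward.isDefEq.respectTransparency false

universe u

open CategoryTheory CategoryTheory.Limits AlgebraicGeometry TopologicalSpace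

noncomputable section

namespace GrothLib.GenFib0

variable {T : Scheme.{u}} {V : T.Opens} (hV : IsAffineOpen V)

/-- A field valued point in an affine open is given by a ring map. -/
theorem exists_evalHom {L : Type u} [Field L] (p : Spec (CommRingCat.of L) ⟶ T) (t : T) (ht : ∀ z, p z = t)
    (htV : t ∈ V) :
    ∃ φ : Γ(T, V) →+* L, Spec.map (CommRingCat.ofHom φ) ≫ hV.fromSpec = p ∧
      ∀ a, t ∈ T.basicOpen a → φ a ≠ 0 := by
  have hr : Set.range p ⊆ Set.range hV.fromSpec := by
    rw [hV.range_fromSpec]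
    rintro _ ⟨z, rfl⟩
    rw [ht z]
    exact htV
  let l := IsOpenImmersion.lift hV.fromSpec p hr
  have hl : Spec.map (CommRingCat.ofHom (Spec.preimage l).hom) ≫ hV.fromSpec = p := by
    rw [CommRingCat.ofHom_hom, Spec.map_preimage]
    exact IsOpenImmersion.lift_fac _ _ _
  refine ⟨(Spec.preimage l).hom, hl, fun a ha h0 => ?_⟩
  let z : Spec (CommRingCat.of L) := IsLocalRing.closedPoint L
  have h1 : hV.fromSpec (Spec.map (CommRingCat.ofHom (Spec.preimage l).hom) z) ∈ T.basicOpen a := by
    have e : hV.fromSpec (Spec.map (CommRingCat.ofHom (Spec.preimage l).hom) z) = p z :=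
      congrArg (fun q : Spec (CommRingCat.of L) ⟶ T => q z) hl
    rw [e, ht z]
    exact ha
  have h2 : Spec.map (CommRingCat.ofHom (Spec.preimage l).hom) z ∈ hV.fromSpec ⁻¹ᵁ T.basicOpen a := h1
  rw [hV.fromSpec_preimage_basicOpen] at h2
  exact h2 (show (Spec.preimage l).hom a ∈ z.asIdeal from h0 ▸ z.asIdeal.zero_mem)

theorem nonempty_iso_pullback {X S W U M B P₁ P₂ : Scheme.{u}} {f : X ⟶ S} {j : U ⟶ S} {μ : W ⟶ X}
    {g : W ⟶ U} {proj : W ⟶ M} {m : M ⟶ B} {π : U ⟶ B}
    (hW : IsPullback μ g f j) (hM : IsPullback proj g m π) {p₁ : P₁ ⟶ S} {p₂ : P₂ ⟶ S}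
    (l₁ : P₁ ⟶ U) (h₁ : l₁ ≫ j = p₁) (l₂ : P₂ ⟶ U) (h₂ : l₂ ≫ j = p₂)
    (e : P₁ ≅ P₂) (he : e.hom ≫ l₂ ≫ π = l₁ ≫ π) :
    Nonempty (pullback f p₁ ≅ pullback f p₂) := by
  subst h₁ h₂
  have a₁ := (IsPullback.of_hasPullback g l₁).flip.flip.paste_horiz hW
  have a₂ := (IsPullback.of_hasPullback g l₂).flip.flip.paste_horiz hW
  have b₁ := (IsPullback.of_hasPullback g l₁).flip.flip.paste_horiz hM
  have b₂ := (IsPullback.of_hasPullback g l₂).flip.flip.paste_horiz hM
  have b₂' : IsPullback (pullback.fst g l₂ ≫ proj) (pullback.snd g l₂ ≫ e.inv) m (l₁ ≫ π) :=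
    b₂.of_iso (Iso.refl _) (Iso.refl _) e.symm (Iso.refl _) (by simp) (by simp) (by simp) (by simp [← he])
  exact ⟨a₁.isoPullback.symm ≪≫ b₁.isoIsPullback _ _ b₂' ≪≫ a₂.isoPullback⟩

theorem isAlgClosed_residueField {k : Type u} [Field k] [IsAlgClosed k] (sT : T ⟶ Spec (CommRingCat.of k))
    [LocallyOfFiniteType sT] {t : T} (ht : IsClosed ({t} : Set T)) :
    IsAlgClosed (T.residueField t) ∧ ∃ φ : k →+* T.residueField t, Function.Bijective φ := by
  haveI : IsClosedImmersion (T.fromSpecResidueField t) :=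
    IsClosedImmersion.of_isPreimmersion _ (by rw [T.range_fromSpecResidueField t]; exact ht)
  haveI : LocallyOfFiniteType (T.fromSpecResidueField t ≫ sT) := inferInstance
  let φ := Spec.preimage (T.fromSpecResidueField t ≫ sT)
  haveI : LocallyOfFiniteType (Spec.map φ) := by rw [Spec.map_preimage]; infer_instance
  have hft : φ.hom.FiniteType := (HasRingHomProperty.Spec_iff (P := @LocallyOfFiniteType)).1 inferInstance
  algebraize [φ.hom]
  haveI : Module.Finite k (T.residueField t) := finite_of_finite_type_of_isJacobsonRing k _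
  have hb : Function.Bijective φ.hom :=
    IsAlgClosed.algebraMap_bijective_of_isIntegral (k := k) (K := T.residueField t)
  exact ⟨IsAlgClosed.of_ringEquiv k _ (RingEquiv.ofBijective φ.hom hb), φ.hom, hb⟩

theorem mk_residueField_genericPoint_le [IsIntegral T] [Nonempty V] (c : Cardinal.{u}) (hc : Cardinal.aleph0 ≤ c)
    (hA : Cardinal.mk Γ(T, V) ≤ c) (hV' : IsAffineOpen V) :
    Cardinal.mk (T.residueField (genericPoint T)) ≤ c := by
  haveI := functionField_isFractionRing_of_isAffineOpen T V hV'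
  have hs : Function.Surjective fun p : Γ(T, V) × nonZeroDivisors Γ(T, V) =>
      IsLocalization.mk' T.functionField p.1 p.2 := fun x => by
    obtain ⟨a, s, h⟩ := IsLocalization.exists_mk'_eq (nonZeroDivisors Γ(T, V)) x
    exact ⟨(a, s), h⟩
  refine (Cardinal.mk_le_of_surjective (T.residue_surjective (genericPoint T))).trans ?_
  refine (Cardinal.mk_le_of_surjective hs).trans ?_
  rw [Cardinal.mk_prod, Cardinal.lift_id, Cardinal.lift_id]
  exact (mul_le_mul' hA ((Cardinal.mk_subtype_le _).trans hA)).trans (Cardinal.mul_eq_self hc).le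

end GrothLib.GenFib0
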