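import Groth.Agent.Lib.GenFib0.Fields
import Groth.Agent.Lib.GenFib0.Geometry
import Groth.Agent.Lib.LimDescend.FgSub
import Mathlib.AlgebraicGeometry.Fiber
import Mathlib.AlgebraicGeometry.Noetherian
import Mathlib.AlgebraicGeometry.Morphisms.FinitePresentation
import Mathlib.FieldTheory.IsAlgClosed.AlgebraicClosure

/-!
# Very general fibres are isomorphic to the geometric generic fibre
-/

set_option autoImplicit false
set_option backward.isDefEq.respectTransparency false
set_option linter.style.haveILetI false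

universe u

open CategoryTheory CategoryTheory.Limits AlgebraicGeometry TopologicalSpace Opposite Cardinal

noncomputable section

namespace GrothLib.GenFib0

theorem exists_closeds_fiber_iso (k : Type u) [Field k] [IsAlgClosed k]
    [Uncountable k] (T X : Scheme.{u}) (sT : T ⟶ Spec (CommRingCat.of k)) [IsIntegral T]
    [LocallyOfFiniteType sT] (f : X ⟶ T) [LocallyOfFiniteType f] [QuasiCompact f] :
    ∃ Z : ℕ → TopologicalSpace.Closeds T, (∀ n, (Z n : Set T) ≠ Set.univ) ∧
      ∀ t : T, IsClosed ({t} : Set T) → (∀ n, t ∉ Z n) →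
        Nonempty (f.fiber t ≅ pullback f (Spec.map (CommRingCat.ofHom (algebraMap
          (T.residueField (genericPoint T)) (AlgebraicClosure (T.residueField (genericPoint T))))) ≫
            T.fromSpecResidueField (genericPoint T))) := by
  classical
  set η := genericPoint T
  obtain ⟨V, hV, hηV, -⟩ := exists_isAffineOpen_mem_and_subset (show η ∈ (⊤ : T.Opens) from trivial)
  haveI : Nonempty V := ⟨⟨η, hηV⟩⟩
  let A := Γ(T, V)
  let φk : k →+* A := (sT.appLE ⊤ V le_top).hom.comp (Scheme.ΓSpecIso (CommRingCat.of k)).inv.hom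
  have hft : φk.FiniteType := (LocallyOfFiniteType.finiteType_appLE sT (isAffineOpen_top _) hV le_top).comp
    (RingHom.FiniteType.of_surjective _ (Scheme.ΓSpecIso (CommRingCat.of k)).commRingCatIsoToRingEquiv.symm.surjective)
  letI : Algebra k A := φk.toAlgebra
  haveI : Algebra.FiniteType k A := hft
  haveI : IsNoetherianRing A := Algebra.FiniteType.isNoetherianRing k A
  -- the part over the affine open
  let W : Scheme.{u} := (f ⁻¹ᵁ V).toScheme
  let g : W ⟶ Spec A := (f ∣_ V) ≫ hV.isoSpec.hom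
  haveI : LocallyOfFiniteType (f ∣_ V) :=
    MorphismProperty.of_isPullback (isPullback_morphismRestrict f V).flip inferInstance
  haveI : QuasiCompact (f ∣_ V) :=
    MorphismProperty.of_isPullback (isPullback_morphismRestrict f V).flip inferInstance
  haveI : LocallyOfFiniteType g := inferInstance
  haveI : QuasiCompact g := inferInstance
  haveI : IsLocallyNoetherian (Spec A) := inferInstance
  haveI : LocallyOfFinitePresentation g := inferInstance
  haveI : IsLocallyNoetherian W := LocallyOfFiniteType.isLocallyNoetherian g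
  haveI : QuasiSeparated g := inferInstance
  obtain ⟨i, ⟨M⟩⟩ := LimDescend.exists_model (LimDescend.fgDiagram A) (LimDescend.fgCone A)
    (LimDescend.isLimitFgCone A) g
  let R := i.unop.1
  haveI : Algebra.FiniteType ℤ R := (Subalgebra.fg_iff_finiteType R).1 i.unop.2
  have hR : #R ≤ ℵ₀ := mk_le_aleph0_of_finiteType_int
  haveI : Countable R := Cardinal.mk_le_aleph0_iff.1 hR
  haveI : Nonempty {a : R // a ≠ 0} := ⟨⟨1, one_ne_zero⟩⟩
  obtain ⟨a, ha⟩ := exists_surjective_nat {a : R // a ≠ 0}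
  have hW : IsPullback (f ⁻¹ᵁ V).ι g f hV.fromSpec :=
    (isPullback_morphismRestrict f V).flip.of_iso (Iso.refl _) (Iso.refl _) hV.isoSpec (Iso.refl _)
      (by simp) (by simp [g]) (by simp) (by simp [IsAffineOpen.isoSpec_hom])
  have hη : ∀ n, η ∈ T.basicOpen ((a n).1 : A) := fun n => by
    have hne : T.basicOpen ((a n).1 : A) ≠ ⊥ := fun h =>
      (a n).2 (Subtype.ext ((basicOpen_eq_bot_iff _).1 h))
    obtain ⟨y, hy⟩ := (TopologicalSpace.Opens.ne_bot_iff_nonempty _).1 hne
    exact ((genericPoint_spec T).specializes trivial).mem_open (T.basicOpen _).2 hy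
  let Z : ℕ → Closeds T := fun n => match n with
    | 0 => ⟨(V : Set T)ᶜ, V.2.isClosed_compl⟩
    | n + 1 => ⟨(T.basicOpen ((a n).1 : A) : Set T)ᶜ, (T.basicOpen _).2.isClosed_compl⟩
  refine ⟨Z, ?_, fun t ht htZ => ?_⟩
  · rintro (_ | n) h
    · exact (Set.eq_univ_iff_forall.1 h η : η ∈ (V : Set T)ᶜ) hηV
    · exact (Set.eq_univ_iff_forall.1 h η : η ∈ (T.basicOpen ((a n).1 : A) : Set T)ᶜ) (hη n)
  have htV : t ∈ V := Classical.not_not.1 (htZ 0)
  have hta : ∀ n, t ∈ T.basicOpen ((a n).1 : A) := fun n => Classical.not_not.1 (htZ (n + 1))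
  let L := AlgebraicClosure (T.residueField η)
  let p₂ : Spec (CommRingCat.of L) ⟶ T :=
    Spec.map (CommRingCat.ofHom (algebraMap (T.residueField η) L)) ≫ T.fromSpecResidueField η
  obtain ⟨φ₁, hφ₁, hne₁⟩ := exists_evalHom hV (L := T.residueField t) (T.fromSpecResidueField t) t
    (fun z => T.fromSpecResidueField_apply t z) htV
  obtain ⟨φ₂, hφ₂, hne₂⟩ := exists_evalHom hV p₂ η
    (fun z => (Scheme.Hom.comp_apply _ _ z).trans (T.fromSpecResidueField_apply η _)) hηV
  let ι : R →+* A := R.val.toRingHom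
  have hinj : ∀ {F : Type u} [Field F] (φ : A →+* F), (∀ n, φ ((a n).1 : A) ≠ 0) →
      Function.Injective (φ.comp ι) := fun {F} _ φ hφ => by
    rw [injective_iff_map_eq_zero]
    intro r hr
    by_contra hr0
    obtain ⟨n, hn⟩ := ha ⟨r, hr0⟩
    exact hφ n (by rw [hn]; exact hr)
  obtain ⟨hκ, φ₀, hφ₀⟩ := isAlgClosed_residueField sT ht
  haveI := hκ
  have hk : ℵ₀ < #k := Cardinal.aleph0_lt_mk
  haveI : Infinite k := inferInstance
  have hA : #A ≤ #k := mk_le_of_finiteType
  have hκη : #(T.residueField η) ≤ #k := mk_residueField_genericPoint_le #k hk.le hA hV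
  have hL : #L = #k := by
    refine le_antisymm ?_ (Cardinal.mk_le_of_injective ((φ₂.comp φk).injective))
    exact (Algebra.IsAlgebraic.cardinalMk_le_max (T.residueField η) L).trans (max_le hκη hk.le)
  have h₁ : #(T.residueField t) = #k := (Cardinal.mk_congr (Equiv.ofBijective _ hφ₀)).symm
  obtain ⟨σ, hσ⟩ := exists_ringEquiv_comp (φ₁.comp ι) (φ₂.comp ι) (hinj φ₁ fun n => hne₁ _ (hta n))
    (hinj φ₂ fun n => hne₂ _ (hη n)) hR (h₁ ▸ hk) (h₁.trans hL.symm)
  refine nonempty_iso_pullback hW M.isPullback _ hφ₁ _ hφ₂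
    (Scheme.Spec.mapIso σ.symm.toCommRingCatIso.op) ?_
  show Spec.map _ ≫ Spec.map (CommRingCat.ofHom φ₂) ≫ Spec.map _ =
    Spec.map (CommRingCat.ofHom φ₁) ≫ Spec.map _
  simp only [← Spec.map_comp]
  congr 1
  ext r
  show σ.symm (φ₂ (ι r)) = φ₁ (ι r)
  rw [RingEquiv.symm_apply_eq]
  exact (RingHom.congr_fun hσ r).symm

end GrothLib.GenFib0
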